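import Groth.Agent.CanonModLib.General
import Groth.Agent.CanonModLib.Canon
import Groth.Agent.RegImmKindLib.Codim
import Groth.Agent.GorLib.Basic

/-!
# The canonical module of a Cohen–Macaulay local domain as an ideal
-/

set_option autoImplicit false
set_option linter.all false

universe u

open IsLocalRing

namespace CanonIdealLib

theorem exists_dim_quotient' {A : Type u} [CommRing A] [IsLocalRing A] [IsNoetherianRing A] {d : ℕ} (J : Ideal A)
    (hd : ringKrullDim A = d) (hJ : J ≠ ⊤) : ∃ e : ℕ, e ≤ d ∧ ringKrullDim (A ⧸ J) = e := by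
  haveI := Ideal.Quotient.nontrivial_iff.2 hJ
  haveI : IsLocalRing (A ⧸ J) := IsLocalRing.of_surjective' _ Ideal.Quotient.mk_surjective
  obtain ⟨e, he⟩ := CommAlgDim.exists_ringKrullDim_eq (R := A ⧸ J)
  refine ⟨e, ?_, he⟩
  have h : ringKrullDim (A ⧸ J) ≤ ringKrullDim A :=
    ringKrullDim_le_of_surjective (Ideal.Quotient.mk J) Ideal.Quotient.mk_surjective
  rw [he, hd] at h
  exact_mod_cast h

theorem finrank_eq_one_of_forall_smul {A : Type u} [CommRing A] [IsDomain A] [IsNoetherianRing A] (K : Type u)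
    [AddCommGroup K] [Module A K] [Module.Finite A K] [Nontrivial K] (htf : ∀ a : A, a ≠ 0 → IsSMulRegular K a)
    (hend : ∀ g : K →ₗ[A] K, ∃ r : A, g = r • LinearMap.id) :
    ∃ j : K →ₗ[A] A, Function.Injective j := by
  classical
  let M := nonZeroDivisors A
  let F := FractionRing A
  let KF := LocalizedModule M K
  let f := LocalizedModule.mkLinearMap M K
  have hf : Function.Injective f := fun x y h => by
    obtain ⟨c, hc⟩ := (IsLocalizedModule.eq_iff_exists M f).1 h
    exact htf (c : A) (nonZeroDivisors.coe_ne_zero c) hc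
  obtain ⟨k₀, hk₀⟩ := exists_ne (0 : K)
  let v : KF := f k₀
  have hv : v ≠ 0 := fun h => hk₀ (hf (h.trans (map_zero f).symm))
  haveI : Module.FinitePresentation A K := Module.finitePresentation_of_finite A K
  have hsc : ∀ φ : KF →ₗ[F] KF, ∃ c : F, ∀ x, φ x = c • x := fun φ => by
    obtain ⟨g, s, hg⟩ := Module.FinitePresentation.exists_lift_of_isLocalizedModule M f ((φ.restrictScalars A) ∘ₗ f)
    obtain ⟨r, rfl⟩ := hend g
    refine ⟨IsLocalization.mk' F r s, fun x => ?_⟩
    obtain ⟨⟨k, t⟩, hk⟩ := IsLocalizedModule.surj M f x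
    have h1 : f (r • k) = (s : A) • φ (f k) := LinearMap.congr_fun hg k
    have h2 : φ (f k) = IsLocalization.mk' F r s • f k := by
      refine (IsLocalization.map_units F s).smul_left_cancel.1 ?_
      rw [smul_smul, show algebraMap A F (s : A) * IsLocalization.mk' F r s = algebraMap A F r from
        IsLocalization.mk'_spec' F r s, algebraMap_smul, algebraMap_smul, ← h1, map_smul]
    refine (IsLocalization.map_units F t).smul_left_cancel.1 ?_
    have hk' : algebraMap A F (t : A) • x = f k := (algebraMap_smul F (t : A) x).trans hk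
    rw [← map_smul φ, hk', h2, smul_comm, hk']
  obtain ⟨W, hW⟩ := (Submodule.span F {v}).exists_isCompl
  have hspan : ∀ x : KF, x ∈ Submodule.span F {v} := fun x => by
    obtain ⟨c, hc⟩ := hsc ((Submodule.span F {v}).subtype ∘ₗ Submodule.linearProjOfIsCompl _ W hW)
    have h1 := hc v
    have hvm := Submodule.mem_span_singleton_self (R := F) v
    rw [LinearMap.comp_apply, show Submodule.linearProjOfIsCompl _ W hW v = ⟨v, hvm⟩ from
      Submodule.linearProjOfIsCompl_apply_left hW ⟨v, hvm⟩] at h1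
    have hc1 : c = 1 := by
      have h2 : (1 - c) • v = 0 := by rw [sub_smul, one_smul, sub_eq_zero]; exact h1
      rcases smul_eq_zero.1 h2 with h3 | h3
      · exact (sub_eq_zero.1 h3).symm
      · exact absurd h3 hv
    rw [← one_smul F x, ← hc1, ← hc x]
    exact (Submodule.linearProjOfIsCompl _ W hW x).2
  let e : F ≃ₗ[F] KF := LinearEquiv.ofBijective (LinearMap.toSpanSingleton F KF v)
    ⟨fun a b h => smul_left_injective F hv h, fun x => Submodule.mem_span_singleton.1 (hspan x)⟩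
  let j₀ : K →ₗ[A] F := (e.symm.toLinearMap.restrictScalars A) ∘ₗ f
  have hj₀ : Function.Injective j₀ := e.symm.injective.comp hf
  obtain ⟨s, hs⟩ := Module.Finite.fg_top (R := A) (M := K)
  obtain ⟨b, hb⟩ := IsLocalization.exist_integer_multiples_of_finset M (s.image j₀)
  have hint : ∀ x : K, ∃ a : A, algebraMap A F a = (b : A) • j₀ x := fun x => by
    have hx : x ∈ Submodule.span A (s : Set K) := by rw [hs]; trivial
    induction hx using Submodule.span_induction with
    | mem y hy => exact hb _ (Finset.mem_image_of_mem _ hy)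
    | zero => exact ⟨0, by rw [map_zero, map_zero, smul_zero]⟩
    | add y z _ _ hy hz =>
      obtain ⟨a, ha⟩ := hy
      obtain ⟨c, hc⟩ := hz
      exact ⟨a + c, by rw [map_add, map_add, smul_add, ha, hc]⟩
    | smul r y _ hy =>
      obtain ⟨a, ha⟩ := hy
      exact ⟨r * a, by rw [map_mul, ha, map_smul, smul_comm, Algebra.smul_def r]⟩
  choose j hj using hint
  refine ⟨{ toFun := j
            map_add' := fun x y => IsFractionRing.injective A F (by rw [map_add, hj, hj, hj, map_add, smul_add])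
            map_smul' := fun r x => IsFractionRing.injective A F (by
              rw [RingHom.id_apply, smul_eq_mul, map_mul, hj, hj, map_smul, smul_comm, Algebra.smul_def r]) }, fun x y h => hj₀ ?_⟩
  have h' := congrArg (algebraMap A F) (show j x = j y from h)
  rw [hj, hj, ← algebraMap_smul F (b : A), ← algebraMap_smul F (b : A) (j₀ y)] at h'
  exact (IsLocalization.map_units F b).smul_left_cancel.1 h'

variable {A : Type u} [CommRing A] [IsDomain A] [IsLocalRing A] [IsNoetherianRing A]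
  [LocCoh.IsCohenMacaulayLocalRing A] {d : ℕ} {E : Type u} [AddCommGroup E] [Module A E]
  {f : ResidueField A →ₗ[A] E} (hf : InjHull.IsInjectiveHull f) (K : Type u) [AddCommGroup K] [Module A K]
  [Module.Finite A K] (eK : (K →ₗ[A] E) ≃ₗ[A] LocCoh.H (maximalIdeal A) d A) (hd : ringKrullDim A = d)

include hf eK hd in
theorem exists_ideal_of_canon : Nonempty (K ≃ₗ[A] A) ∨ ∃ I : Ideal A, I ≠ ⊤ ∧
    (∀ q ∈ associatedPrimes A (A ⧸ I), q.height = 1) ∧ Nonempty (K ≃ₗ[A] I) := by
  classical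
  have hCM : CommAlgDim.IsCM A := SMTLib.isCM_of_isCohenMacaulayLocalRing A
  have hcut : ∀ (J : Ideal A), J ≠ ⊤ → ∀ c : ℕ, (∀ (Q : Ideal A) [Q.IsPrime], J ≤ Q → (c : ℕ∞) ≤ Q.height) →
      ringKrullDim (A ⧸ J) + c ≤ (d : WithBot ℕ∞) := fun J hJ c hc =>
    hd ▸ RegImmKindLib.dim_quotient_add_le hCM J hJ c hc
  have hpos : ∀ (Q : Ideal A) [Q.IsPrime], Q ≠ ⊥ → (1 : ℕ∞) ≤ Q.height := fun Q _ hQ => by
    exact Order.one_le_iff_ne_zero.2 fun h0 => hQ (Ideal.height_eq_zero_iff_eq_bot.1 h0)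
  have htf : ∀ a : A, a ≠ 0 → IsSMulRegular K a := fun a ha => by
    by_cases hu : IsUnit a
    · exact hu.isSMulRegular K
    refine CanonModLib.isSMulRegular_canon hf eK hd ?_
    have h1 := hcut (Ideal.span {a}) (by rwa [ne_eq, Ideal.span_singleton_eq_top]) 1 fun Q _ hQ =>
      hpos Q fun hb => ha (by
        have : a ∈ Q := hQ (Ideal.mem_span_singleton_self a)
        rwa [hb, Ideal.mem_bot] at this)
    obtain ⟨e, he, hed⟩ := exists_dim_quotient' (A := A) (Ideal.span {a}) hd (by rwa [ne_eq, Ideal.span_singleton_eq_top])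
    rw [hed] at h1 ⊢
    norm_cast at h1 ⊢
  haveI := CanonModLib.nontrivial_canon hf eK hd
  obtain ⟨j, hj⟩ := finrank_eq_one_of_forall_smul K htf fun g => by
    obtain ⟨r, hr⟩ := (CanonModLib.toEnd_bijective hf hd eK).2 g
    exact ⟨r, hr.symm⟩
  let I : Ideal A := LinearMap.range j
  let eI : K ≃ₗ[A] I := LinearEquiv.ofInjective j hj
  by_cases hI : I = ⊤
  · exact Or.inl ⟨eI.trans ((LinearEquiv.ofEq _ _ hI).trans Submodule.topEquiv)⟩
  refine Or.inr ⟨I, hI, fun q hq => ?_, ⟨eI⟩⟩
  obtain ⟨hqp, z, hz⟩ := isAssociatedPrime_iff.1 hq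
  obtain ⟨a, rfl⟩ := Ideal.Quotient.mk_surjective z
  haveI := hqp
  have hqa : ∀ r : A, r ∈ q ↔ r * a ∈ I := fun r => by
    rw [hz, Submodule.mem_colon_singleton, Submodule.mem_bot]
    exact Ideal.Quotient.eq_zero_iff_mem
  obtain ⟨k₀, hk₀⟩ := exists_ne (0 : K)
  have hx0 : j k₀ ≠ 0 := fun h => hk₀ (hj (h.trans (map_zero j).symm))
  have hxq : j k₀ ∈ q := (hqa _).2 (I.mul_mem_right a ⟨k₀, rfl⟩)
  refine le_antisymm ?_ (hpos q fun hb => hx0 (by rwa [hb, Ideal.mem_bot] at hxq))
  by_contra hgt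
  have h2 : (2 : ℕ∞) ≤ q.height := Order.add_one_le_of_lt (not_le.1 hgt)
  let x := j k₀
  obtain ⟨y, hyq, hy⟩ : ∃ y ∈ q, ∀ P ∈ (Ideal.span {x}).minimalPrimes, y ∉ P := by
    have hfin : (Ideal.span {x}).minimalPrimes.Finite := Ideal.finite_minimalPrimes_of_isNoetherianRing A _
    have hns : ¬ ((q : Set A) ⊆ ⋃ P ∈ (hfin.toFinset : Set (Ideal A)), (P : Set A)) := fun hsub => by
      obtain ⟨P, hP, hle⟩ := (Ideal.subset_union_prime (f := id) ⊥ ⊥ fun P hP _ _ => (hfin.mem_toFinset.1 hP).1.1).1 hsub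
      haveI := (hfin.mem_toFinset.1 hP).1.1
      have h3 : P.height ≤ 1 :=
        Ideal.height_le_one_of_isPrincipal_of_mem_minimalPrimes _ P (hfin.mem_toFinset.1 hP)
      exact absurd (h2.trans ((Ideal.height_mono hle).trans h3)) (by norm_num)
    obtain ⟨y, hyq, hy⟩ := Set.not_subset.1 hns
    exact ⟨y, hyq, fun P hP hyP => hy (Set.mem_iUnion₂.2 ⟨P, hfin.mem_toFinset.2 hP, hyP⟩)⟩
  have hne : Ideal.span {x, y} ≠ ⊤ := fun h => hqp.ne_top (top_le_iff.1 (h ▸ Ideal.span_le.2 (by
    rintro _ (rfl | rfl)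
    exacts [hxq, hyq])))
  have hdim := hcut (Ideal.span {x, y}) hne 2 fun Q _ hQ => by
    obtain ⟨P, hP, hPQ⟩ := Ideal.exists_minimalPrimes_le (J := Q) (I := Ideal.span {x})
      ((Ideal.span_singleton_le_iff_mem _).2 (hQ (Ideal.subset_span (Or.inl rfl))))
    haveI := hP.1.1
    have hlt : P < Q := lt_of_le_of_ne hPQ fun h => hy P hP (h ▸ hQ (Ideal.subset_span (Or.inr rfl)))
    have h3 : (1 : ℕ∞) ≤ P.height := hpos P fun hb => hx0 (by
      have : x ∈ P := hP.1.2 (Ideal.mem_span_singleton_self x)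
      rwa [hb, Ideal.mem_bot] at this)
    have h4 := Ideal.height_strict_mono_of_isPrime_of_isPrime hlt
    exact le_trans (le_of_eq (by norm_num)) ((add_le_add h3 le_rfl).trans (Order.add_one_le_of_lt h4))
  obtain ⟨e, he, hed⟩ := exists_dim_quotient' (A := A) (Ideal.span {x, y}) hd hne
  rw [hed] at hdim
  norm_cast at hdim
  have hreg := CanonModLib.isSMulRegular_quot_canon hf eK hd (a := x) (b := y) (m := d - 1) (by omega) (by
    rw [hed]; exact_mod_cast (show e < d - 1 by omega))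
  obtain ⟨kx, hkx⟩ := (hqa x).1 hxq
  obtain ⟨ky, hky⟩ := (hqa y).1 hyq
  have hrel : y • kx = x • ky := hj (by
    rw [map_smul, map_smul, show j kx = x * a from hkx, show j ky = y * a from hky, smul_eq_mul, smul_eq_mul]
    ring)
  have h0 : (Submodule.Quotient.mk kx : QuotSMulTop x K) = 0 := by
    refine isSMulRegular_iff_right_eq_zero_of_smul.1 hreg _ ?_
    rw [← Submodule.Quotient.mk_smul, Submodule.Quotient.mk_eq_zero, hrel]
    exact Submodule.smul_mem_pointwise_smul _ _ _ trivial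
  rw [Submodule.Quotient.mk_eq_zero, Submodule.mem_smul_pointwise_iff_exists] at h0
  obtain ⟨k, -, hk⟩ := h0
  have haI : a ∈ I := ⟨k, mul_left_cancel₀ hx0 (by
    rw [← smul_eq_mul, ← map_smul, hk]; exact hkx)⟩
  exact hqp.ne_top (Ideal.eq_top_iff_one q |>.2 ((hqa 1).2 (by rwa [one_mul])))

end CanonIdealLib
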