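import Groth.Agent.CanonIdealLib.Basic
import Groth.Agent.CanonModLib.Ext
import Groth.Agent.DualCxLib.QuotDual

/-!
# `Ext` of a Cohen–Macaulay quotient of a regular local ring
-/

set_option autoImplicit false
set_option linter.all false

universe u

open CategoryTheory CategoryTheory.Limits Opposite IsLocalRing
open Groth.Agent Groth.Agent.DualCxLib

attribute [local instance] HasDerivedCategory.standard

noncomputable section

namespace CanonIdealLib

theorem finite_abExt (R : Type u) [CommRing R] [IsNoetherianRing R] (M K : Type u) [AddCommGroup M] [Module R M]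
    [Module.Finite R M] [AddCommGroup K] [Module R K] [Module.Finite R K] (i : ℕ) :
    Module.Finite R (((Ext R (ModuleCat.{u} R) i).obj (op (ModuleCat.of R M))).obj (ModuleCat.of R K)) := by
  obtain ⟨P, hP⟩ := RichLib.FreeRes.exists_resolution (B := R) (fun N _ _ => Module.Finite R N)
    (fun N _ _ hN => by
      haveI := hN
      obtain ⟨r, φ, hφ⟩ := Module.Finite.exists_fin' R N
      exact ⟨r, φ, hφ, inferInstance⟩) M inferInstance
  cases i with
  | zero =>
    obtain ⟨e⟩ := CanonModLib.nonempty_ext_zero P K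
    exact Module.Finite.equiv e.symm
  | succ i =>
    obtain ⟨e⟩ := CanonModLib.nonempty_ext_succ P K i
    haveI := (hP i).1
    haveI : Module.Finite R (CanonModLib.syz P i) := Module.Finite.of_fg (IsNoetherian.noetherian _)
    exact Module.Finite.equiv e.symm

theorem ext_equiv {B : Type u} [CommRing B] [IsRegularLocalRing B] (p : Ideal B) [p.IsPrime]
    [LocCoh.IsCohenMacaulayLocalRing (B ⧸ p)] (r : ℕ) (d : ℕ) (hd : ringKrullDim (B ⧸ p) = d)
    (E : Type u) [AddCommGroup E] [Module B E] {f : ResidueField B →ₗ[B] E} (hf : InjHull.IsInjectiveHull f)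
    (D : ((((Ext B (ModuleCat.{u} B) r).obj (op (ModuleCat.of B (B ⧸ p)))).obj (ModuleCat.of B B)) →ₗ[B] E)
      ≃ₗ[B] LocCoh.H (maximalIdeal B) d (B ⧸ p)) :
    Nonempty (((Ext B (ModuleCat.{u} B) r).obj (op (ModuleCat.of B (B ⧸ p)))).obj (ModuleCat.of B B) ≃ₗ[B] (B ⧸ p)) ∨
      ∃ I : Ideal (B ⧸ p), I ≠ ⊤ ∧ (∀ q ∈ associatedPrimes (B ⧸ p) ((B ⧸ p) ⧸ I), q.height = 1) ∧
        Nonempty (((Ext B (ModuleCat.{u} B) r).obj (op (ModuleCat.of B (B ⧸ p)))).obj (ModuleCat.of B B) ≃ₗ[B] I) := by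
  haveI := gorenstein_of_regular B
  obtain ⟨EA, _, _, fA, hfA⟩ := InjHullLib.exists_injectiveHull (R := B ⧸ p) (ResidueField (B ⧸ p))
  obtain ⟨ω, hω, hn⟩ := exists_normalized_of_gorenstein (S := B)
  obtain ⟨W, _, _, _, _, _, ⟨eW⟩, ⟨dA⟩⟩ :=
    exists_dual_model (S := B) (R := B ⧸ p) Ideal.Quotient.mk_surjective hω hn hfA (B ⧸ p) d
  obtain ⟨dB⟩ := nonempty_localDuality hω hn hf (B ⧸ p) d
  haveI := finite_abExt B (B ⧸ p) B r
  haveI : Module.Finite B W := Module.Finite.trans (B ⧸ p) W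
  obtain ⟨c⟩ := CanonModLib.nonempty_equiv_of_dual hf (D.trans (dB.trans (eW.arrowCongr (LinearEquiv.refl B E)).symm))
  rcases exists_ideal_of_canon hfA W dA hd with ⟨⟨e⟩⟩ | ⟨I, hI, hq, ⟨e⟩⟩
  · exact Or.inl ⟨c.trans (e.restrictScalars B)⟩
  · exact Or.inr ⟨I, hI, hq, ⟨c.trans (e.restrictScalars B)⟩⟩

end CanonIdealLib
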